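import Groth.Agent.Fano.K276.QuartFam
import Groth.Agent.Fano.K434.HilbFam

/-!
# QC: the family of complete intersections `V_+(v₀, M₁, M₂)` and the Hilbert scheme of a cubic threefold
-/

set_option autoImplicit false
universe u

open CategoryTheory AlgebraicGeometry Limits TopologicalSpace Opposite

namespace Groth.Agent.Fano.K276.QuartFin

open Groth.Agent.Fano.K714 Groth.Agent.Fano.K714.Rat Groth.Agent.Fano.K714.Quart

variable {k : Type u} [Field k]

theorem famToHilb : QuartFam.FamToHilb k := by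
  intro X x H Z hH R _ _ σ W w j _ _ hjw hcl
  exact Groth.Agent.Fano.K434.HilbFam.exists_hom_of_family x H Z hH R σ w j hjw hcl

/-- Near a good decomposition all decompositions are good, with class in the given open set. -/
theorem exists_poly_of_mem_openQ [IsAlgClosed k] (f : LefPen.Form 4 k 3) (H : Over (Spec (CommRingCat.of k)))
    (Z : FGA.HilbSet (ps f) H) (hH : FGA.HilbRepresentedBy (ps f) H Z) (A : H.left.Opens)
    {q₀ : Data k} (hq₀ : q₀ ∈ Sol f) (hgood : Good q₀) {x₀ : ↥H.left} (hx₀ : IsClassQ f H Z q₀ x₀)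
    (hA : x₀ ∈ A) :
    ∃ G : MvPolynomial ((Fin 3 × Fin 5) ⊕ (Fin 3 × Fin 5 × Fin 5)) k,
      MvPolynomial.eval (coord q₀) G ≠ 0 ∧
      ∀ q ∈ Sol f, MvPolynomial.eval (coord q) G ≠ 0 → Good q ∧ ∃ x ∈ A, IsClassQ f H Z q x :=
  QuartFam.exists_poly_of_mem_openQ famToHilb f H Z hH A hq₀ hgood hx₀ hA

end Groth.Agent.Fano.K276.QuartFin
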