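import Groth.Agent.Lefpen.H872.RelSmooth
import Groth.Agent.Lefpen.H718.Jac
import Groth.Agent.Lefpen.H718.Minor
import Mathlib.RingTheory.Nullstellensatz

/-!
# The smooth locus of a family of complete intersections contains a neighbourhood of a smooth member

`exists_smooth_locus`: `G_1..G_d` homogeneous forms over a ring `A` in `N + 1 = n + d + 1` variables, `φ : A → k` a
surjection to an algebraically closed field such that `V(φ G)` is smooth of relative dimension `n`: there is `g ∈ A` with
`φ g = 1` such that `V(ψ G) → Spec R` is smooth of relative dimension `n` for every `ψ : A → R` with `ψ g` a unit.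
-/

set_option autoImplicit false
universe u

open CategoryTheory AlgebraicGeometry Limits TopologicalSpace Opposite MvPolynomial

namespace Groth.Agent.Fano.K276.SmLocus

open Groth.Agent.Lefpen.H872.RelCI Groth.Agent.Lefpen.H872.RelBase Groth.Agent.Sga5

/-! ## Elimination -/

section Elim

variable {A : Type u} [CommRing A] {N : ℕ}

/-- A polynomial whose image vanishes has coefficients in the kernel. -/
theorem mem_smul_homogeneousSubmodule {B : Type u} [CommRing B] (φ : A →+* B) {n : ℕ}
    {p : MvPolynomial (Fin (N + 1)) A} (hp : p.IsHomogeneous n) (h : MvPolynomial.map φ p = 0) :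
    p ∈ RingHom.ker φ • homogeneousSubmodule (Fin (N + 1)) A n := by
  rw [p.as_sum]
  refine Submodule.sum_mem _ fun s hs => ?_
  have h1 : monomial s (coeff s p) = coeff s p • monomial s (1 : A) := by
    rw [smul_monomial, smul_eq_mul, mul_one]
  rw [h1]
  refine Submodule.smul_mem_smul ?_ ?_
  · rw [RingHom.mem_ker, ← coeff_map, h, coeff_zero]
  · rw [mem_homogeneousSubmodule]
    exact isHomogeneous_monomial _ (by
      have := hp (mem_support_iff.1 hs)
      rw [← this, Finsupp.weight_apply, Finsupp.sum_fintype _ _ (by simp), Finsupp.degree_eq_sum]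
      simp)

theorem homogeneousSubmodule_eq_span (n : ℕ) :
    homogeneousSubmodule (Fin (N + 1)) A n =
      Submodule.span A ((fun s => monomial s (1 : A)) '' {s : Fin (N + 1) →₀ ℕ | s.degree = n}) := by
  apply le_antisymm
  · intro p hp
    rw [p.as_sum]
    refine Submodule.sum_mem _ fun s hs => ?_
    have h1 : monomial s (coeff s p) = coeff s p • monomial s (1 : A) := by
      rw [smul_monomial, smul_eq_mul, mul_one]
    rw [h1]
    refine Submodule.smul_mem _ _ (Submodule.subset_span ⟨s, ?_, rfl⟩)
    have := hp (mem_support_iff.1 hs)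
    rw [Set.mem_ofPred_eq, ← this, Finsupp.weight_apply, Finsupp.sum_fintype _ _ (by simp), Finsupp.degree_eq_sum]
    simp
  · rw [Submodule.span_le]
    rintro _ ⟨s, hs, rfl⟩
    exact isHomogeneous_monomial _ hs

theorem fg_homogeneousSubmodule (n : ℕ) : (homogeneousSubmodule (Fin (N + 1)) A n).FG := by
  rw [homogeneousSubmodule_eq_span]
  refine Submodule.fg_span (Set.Finite.image _ ?_)
  exact Finsupp.finite_of_degree_le (σ := Fin (N + 1)) n |>.subset fun s hs => le_of_eq hs

/-- Homogeneous components of elements of homogeneous ideals. -/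
theorem component_mem {J : Ideal (MvPolynomial (Fin (N + 1)) A)}
    (hJ : J.IsHomogeneous (homogeneousSubmodule (Fin (N + 1)) A)) {p : MvPolynomial (Fin (N + 1)) A} (hp : p ∈ J)
    (n : ℕ) : homogeneousComponent n p ∈ J := by
  have h1 := hJ n hp
  have h2 : ((DirectSum.decompose (homogeneousSubmodule (Fin (N + 1)) A) p n :
      homogeneousSubmodule (Fin (N + 1)) A n) : MvPolynomial (Fin (N + 1)) A) = homogeneousComponent n p :=
    MvPolynomial.decomposition.decompose'_apply p n
  rwa [h2] at h1

/-- **Elimination**: if the reduction of a homogeneous ideal contains all monomials of degree `n` then so does the ideal,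
up to an element of `A` which reduces to one. -/
theorem exists_elim {B : Type u} [CommRing B] (φ : A →+* B)
    {J : Ideal (MvPolynomial (Fin (N + 1)) A)} (hJ : J.IsHomogeneous (homogeneousSubmodule (Fin (N + 1)) A)) (n : ℕ)
    (h : ∀ s : Fin (N + 1) →₀ ℕ, s.degree = n → monomial s (1 : B) ∈ J.map (MvPolynomial.map φ))
    (hφ : Function.Surjective φ) :
    ∃ g : A, φ g = 1 ∧ ∀ p : MvPolynomial (Fin (N + 1)) A, p.IsHomogeneous n → C g * p ∈ J := by
  have key : homogeneousSubmodule (Fin (N + 1)) A n ≤
      (J.restrictScalars A ⊔ RingHom.ker φ • homogeneousSubmodule (Fin (N + 1)) A n) := by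
    conv_lhs => rw [homogeneousSubmodule_eq_span]
    rw [Submodule.span_le]
    rintro _ ⟨s, hs, rfl⟩
    have hs' : s.degree = n := hs
    obtain ⟨p, hp, hpe⟩ := (Ideal.mem_map_iff_of_surjective _ (MvPolynomial.map_surjective φ hφ)).1 (h s hs')
    have h1 : homogeneousComponent n p ∈ J := component_mem hJ hp n
    have h2 : MvPolynomial.map φ (homogeneousComponent n p) = monomial s 1 := by
      have : MvPolynomial.map φ (homogeneousComponent n p) = homogeneousComponent n (MvPolynomial.map φ p) := by
        ext t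
        rw [coeff_map, coeff_homogeneousComponent, coeff_homogeneousComponent, coeff_map]
        split_ifs <;> simp
      rw [this, hpe]
      rw [homogeneousComponent_of_mem (m := n) (isHomogeneous_monomial _ hs'), if_pos rfl]
    have h3 : monomial s (1 : A) = homogeneousComponent n p + (monomial s (1 : A) - homogeneousComponent n p) := by
      ring
    simp only [SetLike.mem_coe]
    rw [h3]
    refine Submodule.add_mem_sup h1 (mem_smul_homogeneousSubmodule φ ?_ ?_)
    · exact (isHomogeneous_monomial _ hs').sub (homogeneousComponent_isHomogeneous n p)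
    · rw [map_sub, h2, map_monomial, map_one, sub_self]
  obtain ⟨r, hr, hrJ⟩ := Submodule.exists_sub_one_mem_and_smul_le_of_fg_of_le_sup
    (fg_homogeneousSubmodule n) le_rfl key
  refine ⟨r, ?_, fun p hp => ?_⟩
  · rw [RingHom.mem_ker, map_sub, map_one, sub_eq_zero] at hr
    exact hr
  · have := hrJ (Submodule.smul_mem_pointwise_smul p r _ hp)
    rw [← MvPolynomial.smul_eq_C_mul]
    exact this

end Elim

/-! ## The Jacobian ideal -/

section Jac

variable {A : Type u} [CommRing A] {N d : ℕ} {a : Fin d → ℕ} (G : ∀ j : Fin d, RForm N A (a j))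

/-- The Jacobian matrix. -/
noncomputable def jmat : Matrix (Fin d) (Fin (N + 1)) (MvPolynomial (Fin (N + 1)) A) :=
  Matrix.of fun j l => pderiv l (G j).1

/-- The equations and the maximal minors of the Jacobian matrix. -/
def gens : Set (MvPolynomial (Fin (N + 1)) A) :=
  Set.range (fun j => (G j).1) ∪ Set.range (fun σ : Fin d → Fin (N + 1) => ((jmat G).submatrix id σ).det)

/-- The ideal of the singular locus. -/
noncomputable def jIdeal : Ideal (MvPolynomial (Fin (N + 1)) A) := Ideal.span (gens G)

theorem isHomogeneous_det (σ : Fin d → Fin (N + 1)) :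
    (((jmat G).submatrix id σ).det).IsHomogeneous (∑ j, (a j - 1)) := by
  rw [Matrix.det_apply]
  refine IsHomogeneous.sum _ _ _ fun τ _ => ?_
  have h1 : (∏ i, (jmat G).submatrix id σ (τ i) i).IsHomogeneous (∑ i, (a (τ i) - 1)) :=
    IsHomogeneous.prod _ _ _ fun i _ => IsHomogeneous.pderiv (G (τ i)).2
  rw [Equiv.sum_comp τ (fun j => a j - 1)] at h1
  rcases Int.units_eq_one_or (Equiv.Perm.sign τ) with h | h
  · rw [h, one_smul]
    exact h1
  · rw [h, Units.neg_smul, one_smul]
    exact h1.neg

theorem isHomogeneous_jIdeal : (jIdeal G).IsHomogeneous (homogeneousSubmodule (Fin (N + 1)) A) := by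
  refine Ideal.homogeneous_span _ _ ?_
  rintro _ (⟨j, rfl⟩ | ⟨σ, rfl⟩)
  · exact ⟨a j, (G j).2⟩
  · exact ⟨_, isHomogeneous_det G σ⟩

theorem map_det {B : Type u} [CommRing B] (φ : A →+* B) (σ : Fin d → Fin (N + 1)) :
    MvPolynomial.map φ (((jmat G).submatrix id σ).det) =
      ((jmat (fun j => mapForm φ (G j))).submatrix id σ).det := by
  rw [RingHom.map_det]
  congr 1
  ext i j : 1
  simp [jmat, MvPolynomial.pderiv_map]

theorem jIdeal_map {B : Type u} [CommRing B] (φ : A →+* B) :
    jIdeal (fun j => mapForm φ (G j)) = (jIdeal G).map (MvPolynomial.map φ) := by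
  rw [jIdeal, jIdeal, Ideal.map_span]
  congr 1
  rw [gens, gens, Set.image_union, ← Set.range_comp, ← Set.range_comp]
  congr 1
  congr 1
  funext σ
  exact (map_det G φ σ).symm

/-- A point of the punctured cone with nonvanishing minor: the chart gradients are independent. -/
theorem linearIndependent_chart {K : Type u} [Field K] (ev : MvPolynomial (Fin (N + 1)) A →+* K)
    (i : Fin (N + 1)) (hi : ev (X i) = 1) (hG : ∀ j, ev (G j).1 = 0) (σ : Fin d → Fin (N + 1))
    (hσ : ev (((jmat G).submatrix id σ).det) ≠ 0) :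
    LinearIndependent K (fun j : Fin d => fun l : Fin N => ev (pderiv (i.succAbove l) (G j).1)) := by
  have h1 : LinearIndependent K (((jmat G).submatrix id σ).map ev).row := by
    rw [Matrix.linearIndependent_rows_iff_isUnit, Matrix.isUnit_iff_isUnit_det]
    rw [RingHom.map_det] at hσ
    exact hσ.isUnit
  rw [Fintype.linearIndependent_iff] at h1 ⊢
  intro c hc
  refine h1 c ?_
  have hc' : ∀ l : Fin N, ∑ j, c j * ev (pderiv (i.succAbove l) (G j).1) = 0 := by
    intro l
    have := congrFun hc l
    simpa only [Finset.sum_apply, Pi.smul_apply, smul_eq_mul, Pi.zero_apply] using this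
  have hEuler : ∀ j, ev (pderiv i (G j).1) =
      - ∑ l : Fin N, ev (X (i.succAbove l)) * ev (pderiv (i.succAbove l) (G j).1) := by
    intro j
    have h2 := congrArg ev (IsHomogeneous.sum_X_mul_pderiv (G j).2)
    rw [Fin.sum_univ_succAbove _ i, map_add, map_mul, hi, one_mul, map_nsmul, hG, smul_zero, map_sum] at h2
    simp only [map_mul] at h2
    exact eq_neg_of_add_eq_zero_left h2
  have hci : ∑ j, c j * ev (pderiv i (G j).1) = 0 := by
    simp_rw [hEuler, mul_neg, Finset.mul_sum, Finset.sum_neg_distrib]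
    rw [Finset.sum_comm, neg_eq_zero]
    refine Finset.sum_eq_zero fun l _ => ?_
    have h3 : ∀ j, c j * (ev (X (i.succAbove l)) * ev (pderiv (i.succAbove l) (G j).1)) =
        ev (X (i.succAbove l)) * (c j * ev (pderiv (i.succAbove l) (G j).1)) := fun j => by ring
    simp_rw [h3]
    rw [← Finset.mul_sum, hc', mul_zero]
  have hall : ∀ m, ∑ j, c j * ev (pderiv m (G j).1) = 0 := by
    intro m
    obtain rfl | ⟨l, rfl⟩ := Fin.eq_self_or_eq_succAbove i m
    · exact hci
    · exact hc' l
  funext m
  simp only [Finset.sum_apply, Pi.smul_apply, smul_eq_mul, Pi.zero_apply, Matrix.row, Matrix.map_apply,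
    Matrix.submatrix_apply, id]
  exact hall (σ m)

end Jac

/-! ## Smooth members -/

section Member

variable {k : Type u} [Field k] [IsAlgClosed k] {N d : ℕ} {a : Fin d → ℕ} (G : ∀ j : Fin d, RForm N k (a j))

theorem X_mem_radical {n : ℕ} (hN : N = n + d) (h : SmoothOfRelativeDimension n (yStr G)) (l : Fin (N + 1)) :
    (X l : MvPolynomial (Fin (N + 1)) k) ∈ (jIdeal G).radical := by
  rw [← MvPolynomial.vanishingIdeal_zeroLocus_eq_radical (K := k)]
  intro x hx
  rw [aeval_X]
  by_contra hl
  have hG : ∀ j, eval x (G j).1 = 0 := fun j => by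
    have := hx (G j).1 (Ideal.subset_span (Or.inl ⟨j, rfl⟩))
    rwa [aeval_eq_eval] at this
  have h' : SmoothOfRelativeDimension n (Groth.Agent.Lefpen.H718.Chart.yStr G) := h
  have h1 := Groth.Agent.Lefpen.H718.Jac.linearIndependent_jac (eval x) l G hN hG (by rwa [eval_X])
  obtain ⟨σ, hσ⟩ := Groth.Agent.Lefpen.H718.Minor.exists_minor
    (Matrix.of fun i : Fin d => fun l : Fin (N + 1) => eval x (pderiv l (G i).1)) h1
  apply hσ
  have h2 := hx (((jmat G).submatrix id σ).det) (Ideal.subset_span (Or.inr ⟨σ, rfl⟩))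
  rw [aeval_eq_eval, RingHom.map_det] at h2
  exact h2

theorem exists_degree {n : ℕ} (hN : N = n + d) (h : SmoothOfRelativeDimension n (yStr G)) :
    ∃ m : ℕ, ∀ s : Fin (N + 1) →₀ ℕ, s.degree = m → monomial s (1 : k) ∈ jIdeal G := by
  choose e he using fun l => X_mem_radical G hN h l
  obtain ⟨m, hm⟩ : ∃ m, ∀ l, e l ≤ m := ⟨Finset.univ.sup e, fun l => Finset.le_sup (Finset.mem_univ l)⟩
  have hX : ∀ l, (X l : MvPolynomial (Fin (N + 1)) k) ^ m ∈ jIdeal G := fun l => by
    rw [← Nat.sub_add_cancel (hm l), pow_add]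
    exact Ideal.mul_mem_left _ _ (he l)
  refine ⟨(N + 1) * m, fun s hs => ?_⟩
  obtain ⟨l, hl⟩ : ∃ l, m ≤ s l := by
    by_contra hcon
    push Not at hcon
    have h1 : ∑ l, s l < ∑ _l : Fin (N + 1), m :=
      Finset.sum_lt_sum_of_nonempty Finset.univ_nonempty fun l _ => hcon l
    rw [Finset.sum_const, Finset.card_univ, Fintype.card_fin, smul_eq_mul, ← hs, Finsupp.degree_eq_sum] at h1
    exact lt_irrefl _ h1
  have h2 : monomial s (1 : k) = monomial (s - Finsupp.single l m) 1 * X l ^ m := by
    rw [X_pow_eq_monomial, monomial_mul, one_mul, tsub_add_cancel_of_le]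
    rw [Finsupp.single_le_iff]
    exact hl
  rw [h2]
  exact Ideal.mul_mem_left _ _ (hX l)

end Member

/-- **The smooth locus of a family of complete intersections contains a neighbourhood of a smooth member.** -/
theorem exists_smooth_locus {A : Type u} [CommRing A] {k : Type u} [Field k] [IsAlgClosed k] (φ : A →+* k)
    (hφ : Function.Surjective φ) {N d : ℕ} {a : Fin d → ℕ} (G : ∀ j : Fin d, RForm N A (a j)) {n : ℕ}
    (hN : N = n + d) (h : SmoothOfRelativeDimension n (yStr (fun j => mapForm φ (G j)))) :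
    ∃ g : A, φ g = 1 ∧ ∀ (R : Type u) [CommRing R] (ψ : A →+* R), IsUnit (ψ g) →
      SmoothOfRelativeDimension n (yStr (fun j => mapForm ψ (G j))) := by
  obtain ⟨m, hm⟩ := exists_degree _ hN h
  rw [jIdeal_map] at hm
  obtain ⟨g, hg, hgJ⟩ := exists_elim φ (isHomogeneous_jIdeal G) m hm hφ
  refine ⟨g, hg, fun R _ ψ hu => ?_⟩
  refine Groth.Agent.Lefpen.H872.RelSmooth.smooth_of_forall_point _ hN fun K _ _ v i hi hv => ?_
  let ev : MvPolynomial (Fin (N + 1)) A →+* K := (aeval v : MvPolynomial (Fin (N + 1)) R →ₐ[R] K).toRingHom.comp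
    (MvPolynomial.map ψ)
  have hev : ∀ p, ev p = aeval v (MvPolynomial.map ψ p) := fun _ => rfl
  have hevG : ∀ j, ev (G j).1 = 0 := fun j => hv j
  have hevi : ev (X i) = 1 := by rw [hev, map_X, aeval_X, hi]
  have hσ : ∃ σ : Fin d → Fin (N + 1), ev (((jmat G).submatrix id σ).det) ≠ 0 := by
    by_contra hcon
    push Not at hcon
    have h1 : jIdeal G ≤ RingHom.ker ev := by
      rw [jIdeal, Ideal.span_le]
      rintro _ (⟨j, rfl⟩ | ⟨σ, rfl⟩)
      · exact hevG j
      · exact hcon σ
    have h2 := h1 (hgJ (X i ^ m) (by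
      have := (isHomogeneous_X A i).pow m
      rwa [one_mul] at this))
    rw [RingHom.mem_ker, map_mul, map_pow, hevi, one_pow, mul_one, hev, map_C, aeval_C] at h2
    exact (hu.map (algebraMap R K)).ne_zero h2
  obtain ⟨σ, hσ⟩ := hσ
  have h3 := linearIndependent_chart G ev i hevi hevG σ hσ
  convert h3 using 1
  funext j l
  rw [hev, mapForm_val, MvPolynomial.pderiv_map]

end Groth.Agent.Fano.K276.SmLocus
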