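import Groth.Agent.Fano.K276.QuartUniv
import Groth.Agent.Fano.K276.SmLocus
import Groth.Agent.Variety.K658.RelDimComp
import Groth.Agent.Surf.K455.RelDim
import Groth.Agent.S14335
import Groth.Agent.S0209

/-!
# The family of complete intersections `V_+(v₀, M₁, M₂)` and the Hilbert scheme of a cubic threefold
-/

set_option autoImplicit false
universe u

open CategoryTheory AlgebraicGeometry Limits TopologicalSpace Opposite MvPolynomial

namespace Groth.Agent.Fano.K276.QuartFam

open Groth.Agent.Lefpen.H872.RelCI Groth.Agent.Lefpen.H872.RelBase Groth.Agent.Sga5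
open Groth.Agent.CohqB.ProjBC
open Groth.Agent.Fano.K714 Groth.Agent.Fano.K714.Rat Groth.Agent.Fano.K714.Quart
open Groth.Agent.Fano.K276.QuartUniv

variable {k : Type u} [Field k]

/-! ## Goodness and smoothness of relative dimension one -/

theorem nonempty_of_zero {N d : ℕ} {a : Fin d → ℕ} (G : ∀ j : Fin d, RForm N k (a j)) (x : Fin (N + 1) → k)
    (hx : x ≠ 0) (hG : ∀ j, eval x (G j).1 = 0) : Nonempty (Y G) := by
  obtain ⟨i, hi⟩ : ∃ i, x i ≠ 0 := by
    by_contra h
    push Not at h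
    exact hx (funext h)
  have hi' : eval x (X i) ≠ 0 := by rwa [eval_X]
  have hker : RingHom.ker (toY G i) ≤ RingHom.ker (Groth.Agent.Lefpen.H718.Jac.aff (eval x) i) := by
    rw [ker_toY, Ideal.span_le]
    rintro _ ⟨j, rfl⟩
    have h := Groth.Agent.Lefpen.H718.Jac.eval_eq (eval x) i hi' (a j) (G j).1 (G j).2
    rw [hG] at h
    exact (mul_eq_zero.1 h.symm).resolve_left (pow_ne_zero _ hi')
  let ψ : Γ(Y G, ychart G i) →+* k := RingHom.liftOfSurjective (toY G i) (toY_surjective G i) ⟨_, hker⟩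
  exact ⟨(Spec.map (CommRingCat.ofHom ψ) ≫ (isAffineOpen_ychart G i).fromSpec).base (IsLocalRing.closedPoint k)⟩

theorem nonempty_Y [IsAlgClosed k] {N d : ℕ} {a : Fin d → ℕ} (ha : ∀ j, 1 ≤ a j) (hd : d ≤ N)
    (G : ∀ j : Fin d, RForm N k (a j)) : Nonempty (Y G) := by
  obtain ⟨x, hx, hG⟩ := Groth.Agent.S0209.result k d (N + 1) (fun j => (G j).1) a (fun j => (G j).2)
    (fun j => ha j) (by simp; omega)
  exact nonempty_of_zero G x hx hG

/-- The three forms of a decomposition. -/
noncomputable abbrev qforms (q : Data k) : ∀ j : Fin 3, RForm 4 k (deg3 j) := forms (q.1 0) (q.2 1) (q.2 2)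

theorem good_of_smooth [IsAlgClosed k] (q : Data k) (h : SmoothOfRelativeDimension 1 (yStr (qforms q))) : Good q := by
  have e := cI_eq q
  rw [Good, e]
  have h1 : Nonempty ↥(rciIdeal (qforms q)).subscheme := nonempty_Y one_le_deg3 (by norm_num) (qforms q)
  refine ⟨?_, ?_⟩
  · exact SmoothOfRelativeDimension.smooth 1 (yStr (qforms q))
  · exact_mod_cast K658.RelDimComp.topologicalKrullDim_eq 1
      ((rciIdeal (qforms q)).subschemeι ≫ CohB1.ProjSpace.toSpec 4 k)

theorem smooth_of_good (q : Data k) (h : Good q) : SmoothOfRelativeDimension 1 (yStr (qforms q)) := by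
  rw [Good, cI_eq q] at h
  have h1 : Smooth (yStr (qforms q)) := h.1
  have h2 : IsProper (yStr (qforms q)) := inferInstance
  have h3 : LocallyOfFiniteType (yStr (qforms q)) := inferInstance
  have h4 : IsLocallyNoetherian (Y (qforms q)) := LocallyOfFiniteType.isLocallyNoetherian (yStr (qforms q))
  have h5 : CompactSpace (Y (qforms q)) := QuasiCompact.compactSpace_of_compactSpace (yStr (qforms q))
  have h6 : IsNoetherian (Y (qforms q)) := {}
  refine K455.RelDim.smoothOfRelativeDimension k (yStr (qforms q)) 1 fun Z hZ => ?_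
  exact Groth.Agent.S14335.result k 4 3 (by norm_num) deg3 one_le_deg3 (qforms q) h.2 Z hZ

/-! ## The universal decomposition -/

/-- The coordinates. -/
abbrev V : Type := (Fin 3 × Fin 5) ⊕ (Fin 3 × Fin 5 × Fin 5)

/-- The universal linear forms. -/
noncomputable def uv (j : Fin 3) (i : Fin 5) : MvPolynomial V k := X (Sum.inl (j, i))

/-- The universal quadratic forms. -/
noncomputable def uM (j : Fin 3) (i l : Fin 5) : MvPolynomial V k := X (Sum.inr (j, i, l))

theorem eval_uv (q : Data k) (j : Fin 3) (i : Fin 5) : eval (coord q) (uv j i) = q.1 j i := by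
  simp [uv, coord]

theorem eval_uM (q : Data k) (j : Fin 3) (i l : Fin 5) : eval (coord q) (uM j i l) = q.2 j i l := by
  simp [uM, coord]

/-- The universal forms. -/
noncomputable def uforms : ∀ j : Fin 3, RForm 4 (MvPolynomial V k) (deg3 j) := forms (uv 0) (uM 1) (uM 2)

theorem mapForm_uforms (q : Data k) (j : Fin 3) : mapForm (eval (coord q)) (uforms j) = qforms q j := by
  rw [uforms, ← mapForm_forms]
  simp_rw [eval_uv, eval_uM]

/-- The universal relation. -/
noncomputable def rel (f : LefPen.Form 4 k 3) : MvPolynomial (Fin 5) (MvPolynomial V k) :=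
  MvPolynomial.map C f.1 - ∑ j : Fin 3, (rlin (uv j)).1 * (rquad (uM j)).1

/-- The ideal of the universal relation. -/
noncomputable def relIdeal (f : LefPen.Form 4 k 3) : Ideal (MvPolynomial V k) :=
  Ideal.span (Set.range fun m => coeff m (rel f))

theorem map_rel (f : LefPen.Form 4 k 3) {R : Type u} [CommRing R] (ψ : MvPolynomial V k →+* R) :
    MvPolynomial.map ψ (rel f) = MvPolynomial.map (ψ.comp C) f.1 -
      ∑ j : Fin 3, (rlin fun i => ψ (uv j i)).1 * (rquad fun i l => ψ (uM j i l)).1 := by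
  rw [rel, map_sub, MvPolynomial.map_map, map_sum]
  congr 1
  refine Finset.sum_congr rfl fun j _ => ?_
  rw [map_mul, ← mapForm_val, ← mapForm_val, mapForm_rlin, mapForm_rquad]

theorem relIdeal_le_iff (f : LefPen.Form 4 k 3) {R : Type u} [CommRing R] (ψ : MvPolynomial V k →+* R) :
    relIdeal f ≤ RingHom.ker ψ ↔ MvPolynomial.map (ψ.comp C) f.1 =
      ∑ j : Fin 3, (rlin fun i => ψ (uv j i)).1 * (rquad fun i l => ψ (uM j i l)).1 := by
  rw [← sub_eq_zero, ← map_rel, relIdeal, Ideal.span_le, MvPolynomial.ext_iff]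
  constructor
  · intro h m
    rw [coeff_map, coeff_zero]
    exact h ⟨m, rfl⟩
  · rintro h _ ⟨m, rfl⟩
    have := h m
    rwa [coeff_map, coeff_zero] at this

theorem relIdeal_le_of_mem {f : LefPen.Form 4 k 3} {q : Data k} (hq : q ∈ Sol f) :
    relIdeal f ≤ RingHom.ker (eval (coord q)) := by
  rw [relIdeal_le_iff]
  simp_rw [eval_uv, eval_uM]
  have h1 : (eval (coord q)).comp (C : k →+* MvPolynomial V k) = RingHom.id k := by
    ext c; simp
  rw [h1, MvPolynomial.map_id, hq.2]
  refine Finset.sum_congr rfl fun j _ => ?_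
  have e1 : rlin (q.1 j) = lin (q.1 j) := rlin_eq _
  have e2 : rquad (q.2 j) = quad (q.2 j) := rquad_eq _
  rw [← e1, ← e2]

theorem mem_span_of_rel (f : LefPen.Form 4 k 3) {R : Type u} [CommRing R] (ψ : MvPolynomial V k →+* R)
    (h : relIdeal f ≤ RingHom.ker ψ) : MvPolynomial.map (ψ.comp C) f.1 ∈
      Ideal.span (Set.range fun j => (mapForm ψ (uforms j)).1) := by
  rw [(relIdeal_le_iff f ψ).1 h, Fin.sum_univ_three]
  have h0 : mapForm ψ (uforms 0) = rlin fun i => ψ (uv 0 i) := mapForm_rlin ψ _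
  have h1 : mapForm ψ (uforms 1) = rquad fun i l => ψ (uM 1 i l) := mapForm_rquad ψ _
  have h2 : mapForm ψ (uforms 2) = rquad fun i l => ψ (uM 2 i l) := mapForm_rquad ψ _
  refine Ideal.add_mem _ (Ideal.add_mem _ (Ideal.mul_mem_right _ _ ?_) (Ideal.mul_mem_left _ _ ?_))
    (Ideal.mul_mem_left _ _ ?_)
  · rw [← h0]; exact Ideal.subset_span ⟨0, rfl⟩
  · rw [← h1]; exact Ideal.subset_span ⟨1, rfl⟩
  · rw [← h2]; exact Ideal.subset_span ⟨2, rfl⟩

/-! ## The main theorem -/

/-- The statement R0: a flat family of closed subschemes over `Spec R` gives a morphism to the Hilbert scheme. -/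
def FamToHilb (k : Type u) [Field k] : Prop :=
  ∀ {X : Scheme.{u}} (x : X ⟶ Spec (CommRingCat.of k))
    (H : Over (Spec (CommRingCat.of k))) (Z : FGA.HilbSet x H) (_ : FGA.HilbRepresentedBy x H Z)
    (R : Type u) [CommRing R] [IsNoetherianRing R] (σ : k →+* R)
    {W : Scheme.{u}} (w : W ⟶ Spec (CommRingCat.of R)) (j : W ⟶ X) [IsProper w] [Flat w]
    (hjw : j ≫ x = w ≫ Spec.map (CommRingCat.ofHom σ))
    (_ : IsClosedImmersion (pullback.lift j w hjw)),
    ∃ g : Over.mk (Spec.map (CommRingCat.ofHom σ)) ⟶ H,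
      ∀ (m : R →+* k) (hm : Spec.map (CommRingCat.ofHom m) ≫ Spec.map (CommRingCat.ofHom σ) =
          𝟙 (Spec (CommRingCat.of k)))
        (W₀ : Scheme.{u}) (w₀ : W₀ ⟶ Spec (CommRingCat.of k)) (e : W₀ ⟶ W)
        (_ : IsPullback e w₀ w (Spec.map (CommRingCat.ofHom m))),
        FGA.hilbPull x ((Over.homMk (Spec.map (CommRingCat.ofHom m)) hm :
            pt k ⟶ Over.mk (Spec.map (CommRingCat.ofHom σ))) ≫ g) Z.1 =
          (e ≫ j).ker.comap (pullback.fst x (pt k).hom)

theorem mem_basicOpen_comap {R : Type u} [CommRing R] (m : R →+* k) (s : R) :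
    (Spec.map (CommRingCat.ofHom m)).base (IsLocalRing.closedPoint k) ∈ PrimeSpectrum.basicOpen s ↔ m s ≠ 0 := by
  change s ∉ (PrimeSpectrum.comap m (IsLocalRing.closedPoint k)).asIdeal ↔ _
  rw [PrimeSpectrum.comap_asIdeal, Ideal.mem_comap]
  change m s ∉ IsLocalRing.maximalIdeal k ↔ _
  rw [IsLocalRing.maximalIdeal_eq_bot, Ideal.mem_bot]

theorem exists_poly_of_mem_openQ [IsAlgClosed k] (hR0 : FamToHilb k) (f : LefPen.Form 4 k 3)
    (H : Over (Spec (CommRingCat.of k)))
    (Z : FGA.HilbSet (ps f) H) (hH : FGA.HilbRepresentedBy (ps f) H Z) (A : H.left.Opens)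
    {q₀ : Data k} (hq₀ : q₀ ∈ Sol f) (hgood : Good q₀) {x₀ : ↥H.left} (hx₀ : IsClassQ f H Z q₀ x₀)
    (hA : x₀ ∈ A) :
    ∃ G : MvPolynomial ((Fin 3 × Fin 5) ⊕ (Fin 3 × Fin 5 × Fin 5)) k,
      MvPolynomial.eval (coord q₀) G ≠ 0 ∧
      ∀ q ∈ Sol f, MvPolynomial.eval (coord q) G ≠ 0 → Good q ∧ ∃ x ∈ A, IsClassQ f H Z q x := by
  have hsm₀ := smooth_of_good q₀ hgood
  have hsurj : Function.Surjective (eval (coord q₀) : MvPolynomial V k →+* k) := fun c => ⟨C c, eval_C c⟩
  have hforms₀ : (fun j => mapForm (eval (coord q₀)) (uforms j)) = qforms q₀ := funext fun j => mapForm_uforms q₀ j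
  obtain ⟨g, hg, hgsm⟩ := SmLocus.exists_smooth_locus (eval (coord q₀)) hsurj (uforms (k := k)) (n := 1)
    (by norm_num) (by rw [hforms₀]; exact hsm₀)
  -- the base ring
  let mk : MvPolynomial V k →+* (MvPolynomial V k ⧸ relIdeal f) := Ideal.Quotient.mk (relIdeal f)
  let R : Type u := Localization.Away (mk g)
  let loc : (MvPolynomial V k ⧸ relIdeal f) →+* R := algebraMap _ R
  let ψ : MvPolynomial V k →+* R := loc.comp mk
  have hψu : IsUnit (ψ g) := IsLocalization.Away.algebraMap_isUnit (mk g)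
  have hψk : relIdeal f ≤ RingHom.ker ψ := by
    intro x hx
    rw [RingHom.mem_ker]
    change loc (mk x) = 0
    rw [show mk x = 0 from Ideal.Quotient.eq_zero_iff_mem.2 hx, map_zero]
  have hnoeth : IsNoetherianRing R := IsLocalization.isNoetherianRing (Submonoid.powers (mk g)) R inferInstance
  let σ : k →+* R := ψ.comp C
  let G : ∀ j : Fin 3, RForm 4 R (deg3 j) := fun j => mapForm ψ (uforms j)
  have hG : SmoothOfRelativeDimension 1 (yStr G) := hgsm R ψ hψu
  have hGs : Smooth (yStr G) := SmoothOfRelativeDimension.smooth 1 (yStr G)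
  have hmem : MvPolynomial.map σ f.1 ∈ Ideal.span (Set.range fun j => (G j).1) := mem_span_of_rel f ψ hψk
  obtain ⟨gH, hgH⟩ := hR0 (ps f) H Z hH R σ (yStr G) (toXf σ f G hmem) (toXf_ps σ f G hmem)
    (isClosedImmersion_lift σ f G hmem)
  -- the points
  have hpt : ∀ q ∈ Sol f, eval (coord q) g ≠ 0 → ∃ m : R →+* k, m.comp ψ = eval (coord q) := by
    intro q hq hqg
    let m0 : (MvPolynomial V k ⧸ relIdeal f) →+* k :=
      Ideal.Quotient.lift (relIdeal f) (eval (coord q)) fun a ha => relIdeal_le_of_mem hq ha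
    have hm0 : ∀ p, m0 (mk p) = eval (coord q) p := fun p => Ideal.Quotient.lift_mk _ _ _
    have hu : IsUnit (m0 (mk g)) := by rw [hm0]; exact hqg.isUnit
    refine ⟨IsLocalization.Away.lift (mk g) hu, ?_⟩
    ext p
    · change IsLocalization.Away.lift (mk g) hu (loc (mk (C p))) = _
      rw [IsLocalization.Away.lift_eq, hm0]
      rfl
    · change IsLocalization.Away.lift (mk g) hu (loc (mk (X p))) = _
      rw [IsLocalization.Away.lift_eq, hm0]
  have hid : ∀ (q : Data k) (m : R →+* k), m.comp ψ = eval (coord q) → m.comp σ = RingHom.id k := by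
    intro q m hm
    have : m.comp σ = (m.comp ψ).comp C := rfl
    rw [this, hm]
    ext c; simp
  have hid' : ∀ (q : Data k) (m : R →+* k), m.comp ψ = eval (coord q) →
      Spec.map (CommRingCat.ofHom m) ≫ Spec.map (CommRingCat.ofHom σ) = 𝟙 (Spec (CommRingCat.of k)) := by
    intro q m hm
    rw [← Spec.map_comp, ← CommRingCat.ofHom_comp, hid q m hm, CommRingCat.ofHom_id, Spec.map_id]
  have hGq : ∀ (q : Data k) (m : R →+* k), m.comp ψ = eval (coord q) → ∀ j, qforms q j = mapForm m (G j) := by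
    intro q m hm j
    rw [← mapForm_uforms]
    apply Subtype.ext
    change MvPolynomial.map (eval (coord q)) (uforms j).1 = MvPolynomial.map m (MvPolynomial.map ψ (uforms j).1)
    rw [MvPolynomial.map_map, hm]
  -- classes
  have hclass : ∀ (q : Data k) (m : R →+* k) (hm : m.comp ψ = eval (coord q)),
      FGA.hilbPull (ps f) ((Over.homMk (Spec.map (CommRingCat.ofHom m)) (hid' q m hm) :
            pt k ⟶ Over.mk (Spec.map (CommRingCat.ofHom σ))) ≫ gH) Z.1 =
        ((cI q).comap (emb f)).comap (pullback.fst (ps f) (pt k).hom) := by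
    intro q m hm
    have h1 := hgH m (hid' q m hm) (Y (qforms q)) (yStr (qforms q)) (rMap m G (qforms q) (hGq q m hm))
      (isPullback_rMap_toSpec m G (qforms q) (hGq q m hm))
    rw [ker_fibre σ f G hmem m (hid q m hm) (qforms q) (hGq q m hm)] at h1
    rw [h1, cI_eq q]
  have hgoodq : ∀ (q : Data k) (m : R →+* k), m.comp ψ = eval (coord q) → Good q := by
    intro q m hm
    refine good_of_smooth q ?_
    have := smoothOfRelativeDimension_isStableUnderBaseChange 1
    exact MorphismProperty.of_isPullback (P := @SmoothOfRelativeDimension 1)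
      (isPullback_rMap_toSpec m G (qforms q) (hGq q m hm)) hG
  -- the point of q₀
  have hg₀ : eval (coord q₀) g ≠ 0 := by rw [hg]; exact one_ne_zero
  obtain ⟨m₀, hm₀⟩ := hpt q₀ hq₀ hg₀
  obtain ⟨h₀, hx₀', hh₀⟩ := hx₀
  have huniq : h₀ = (Over.homMk (Spec.map (CommRingCat.ofHom m₀)) (hid' q₀ m₀ hm₀) :
            pt k ⟶ Over.mk (Spec.map (CommRingCat.ofHom σ))) ≫ gH := by
    have hln : IsLocallyNoetherian (pt k).left := inferInstanceAs (IsLocallyNoetherian (Spec (CommRingCat.of k)))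
    refine (hH.2 (pt k) ⟨FGA.hilbPull (ps f) h₀ Z.1, Groth.Agent.Fga.HilbClosed.mem_hilbPull _ h₀ Z⟩).unique rfl ?_
    change _ = FGA.hilbPull (ps f) h₀ Z.1
    rw [hclass q₀ m₀ hm₀, hh₀]
  let A' : (Spec (CommRingCat.of R)).Opens := gH.left ⁻¹ᵁ A
  have hp₀ : (Spec.map (CommRingCat.ofHom m₀)).base (IsLocalRing.closedPoint k) ∈ A' := by
    change gH.left.base ((Spec.map (CommRingCat.ofHom m₀)).base (IsLocalRing.closedPoint k)) ∈ A
    rw [hx₀', huniq] at hA
    exact hA
  obtain ⟨_, ⟨s, rfl⟩, hs₀, hsA⟩ := PrimeSpectrum.isTopologicalBasis_basic_opens.exists_subset_of_mem_open hp₀ A'.2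
  have hs₀' : m₀ s ≠ 0 := (mem_basicOpen_comap m₀ s).1 hs₀
  obtain ⟨n, s', hs'⟩ := IsLocalization.Away.surj (mk g) s
  obtain ⟨t, rfl⟩ := Ideal.Quotient.mk_surjective s'
  have hst : ∀ (q : Data k) (m : R →+* k), m.comp ψ = eval (coord q) →
      m s * eval (coord q) g ^ n = eval (coord q) t := by
    intro q m hm
    have h1 := congrArg m hs'
    rw [map_mul, map_pow] at h1
    have h2 : ∀ p, m (algebraMap _ R (mk p)) = eval (coord q) p := fun p => congr($hm p)
    rw [h2] at h1
    rw [h1]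
    exact h2 t
  refine ⟨g * t, ?_, ?_⟩
  · rw [map_mul, hg, one_mul, ← hst q₀ m₀ hm₀, hg, one_pow, mul_one]
    exact hs₀'
  · intro q hq hqgt
    rw [map_mul] at hqgt
    have hqg : eval (coord q) g ≠ 0 := left_ne_zero_of_mul hqgt
    have hqt : eval (coord q) t ≠ 0 := right_ne_zero_of_mul hqgt
    obtain ⟨m, hm⟩ := hpt q hq hqg
    refine ⟨hgoodq q m hm, ?_⟩
    have hms : m s ≠ 0 := by
      rw [← hst q m hm] at hqt
      exact left_ne_zero_of_mul hqt
    have hin := hsA ((mem_basicOpen_comap m s).2 hms)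
    refine ⟨gH.left.base ((Spec.map (CommRingCat.ofHom m)).base (IsLocalRing.closedPoint k)), hin, ?_⟩
    exact ⟨(Over.homMk (Spec.map (CommRingCat.ofHom m)) (hid' q m hm) :
            pt k ⟶ Over.mk (Spec.map (CommRingCat.ofHom σ))) ≫ gH, rfl, hclass q m hm⟩

end Groth.Agent.Fano.K276.QuartFam
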