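import Groth.Agent.Fano.K714.QuartDef
import Groth.Agent.Lefpen.H872.RelBase
import Groth.Agent.Fga.QD1Hilb
import Groth.Agent.Fga.HilbClosed

/-!
# The family of curves `V_+(v₀, M₁, M₂)` over a ring, and its map to the cubic `V_+(f)`

* `rlin`, `rquad`, `forms`: the linear form, the quadratic forms over a ring; `mapForm_forms`, `cI_eq`.
* `exists_toXf`: if `f = ∑ v_j M_j` over `R` then `V(v₀, M₁, M₂) → P^4_R → P^4_k` factors through `V_+(f)`.
* `isClosedImmersion_lift`: `V(v₀, M₁, M₂) → V_+(f) × Spec R` is a closed immersion.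
* `ker_fibre`: the fibre over a `k`-point.
-/

set_option autoImplicit false
universe u

open CategoryTheory AlgebraicGeometry Limits TopologicalSpace Opposite MvPolynomial

namespace Groth.Agent.Fano.K276.QuartUniv

open Groth.Agent.Lefpen.H872.RelCI Groth.Agent.Lefpen.H872.RelBase Groth.Agent.Sga5
open Groth.Agent.CohqB.ProjBC Groth.Agent.Divis.IdealComap Groth.Agent.Fdesc.LocGen
open Groth.Agent.Fano.K714 Groth.Agent.Fano.K714.Rat Groth.Agent.Fano.K714.Quart

section Forms

variable {A : Type u} [CommRing A] {B : Type u} [CommRing B] (φ : A →+* B)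

theorem XX_mem (i j : Fin 5) : (X i * X j : MvPolynomial (Fin (4 + 1)) A) ∈ CohB1.polyGrading 4 A 2 :=
  (MvPolynomial.mem_homogeneousSubmodule _ _).mpr
    ((MvPolynomial.isHomogeneous_X A i).mul (MvPolynomial.isHomogeneous_X A j))

/-- The linear form with coefficients `v`. -/
noncomputable def rlin (v : Fin 5 → A) : RForm 4 A 1 :=
  ⟨∑ i, C (v i) * X i, Submodule.sum_mem _ fun i _ => by
    rw [← MvPolynomial.smul_eq_C_mul]
    exact Submodule.smul_mem _ _ (Groth.Agent.Lefpen.H872.RelCI.X_mem 4 A i)⟩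

/-- The quadratic form with coefficient matrix `M`. -/
noncomputable def rquad (M : Fin 5 → Fin 5 → A) : RForm 4 A 2 :=
  ⟨∑ i, ∑ j, C (M i j) * (X i * X j), Submodule.sum_mem _ fun i _ => Submodule.sum_mem _ fun j _ => by
    rw [← MvPolynomial.smul_eq_C_mul]
    exact Submodule.smul_mem _ _ (XX_mem i j)⟩

theorem mapForm_rlin (v : Fin 5 → A) : mapForm φ (rlin v) = rlin (fun i => φ (v i)) := by
  apply Subtype.ext
  rw [mapForm_val]
  simp [rlin]

theorem mapForm_rquad (M : Fin 5 → Fin 5 → A) : mapForm φ (rquad M) = rquad (fun i j => φ (M i j)) := by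
  apply Subtype.ext
  rw [mapForm_val]
  simp [rquad]

theorem rlin_eq {k : Type u} [Field k] (v : Fin 5 → k) : rlin v = lin v := by
  apply Subtype.ext
  simp [rlin, lin, MvPolynomial.smul_eq_C_mul]

theorem rquad_eq {k : Type u} [Field k] (M : Fin 5 → Fin 5 → k) : rquad M = quad M := by
  apply Subtype.ext
  simp [rquad, quad, MvPolynomial.smul_eq_C_mul]

/-- The degrees. -/
def deg3 : Fin 3 → ℕ
  | 0 => 1
  | 1 => 2
  | 2 => 2

/-- The three forms. -/
noncomputable def forms (v : Fin 5 → A) (M M' : Fin 5 → Fin 5 → A) : ∀ j : Fin 3, RForm 4 A (deg3 j)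
  | 0 => rlin v
  | 1 => rquad M
  | 2 => rquad M'

theorem mapForm_forms (v : Fin 5 → A) (M M' : Fin 5 → Fin 5 → A) (j : Fin 3) :
    forms (fun i => φ (v i)) (fun i j => φ (M i j)) (fun i j => φ (M' i j)) j = mapForm φ (forms v M M' j) := by
  match j with
  | 0 => exact (mapForm_rlin φ v).symm
  | 1 => exact (mapForm_rquad φ M).symm
  | 2 => exact (mapForm_rquad φ M').symm

theorem one_le_deg3 (j : Fin 3) : 1 ≤ deg3 j := by
  match j with
  | 0 => exact le_rfl
  | 1 => exact Nat.le_succ 1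
  | 2 => exact Nat.le_succ 1

theorem cI_eq {k : Type u} [Field k] (q : Data k) : cI q = rciIdeal (forms (q.1 0) (q.2 1) (q.2 2)) := by
  rw [rciIdeal, cI, ← rlin_eq, ← rquad_eq, ← rquad_eq]
  apply le_antisymm
  · refine sup_le (sup_le ?_ ?_) ?_
    · exact le_iSup (fun j => rhypIdeal (forms (q.1 0) (q.2 1) (q.2 2) j)) 0
    · exact le_iSup (fun j => rhypIdeal (forms (q.1 0) (q.2 1) (q.2 2) j)) 1
    · exact le_iSup (fun j => rhypIdeal (forms (q.1 0) (q.2 1) (q.2 2) j)) 2
  · refine iSup_le fun j => ?_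
    match j with
    | 0 => exact le_sup_left.trans le_sup_left
    | 1 => exact le_sup_right.trans le_sup_left
    | 2 => exact le_sup_right

end Forms

/-! ## Inclusion of ideal sheaves -/

section Incl

variable {A : Type u} [CommRing A] {N e : ℕ}

theorem rhypIdeal_le (F : RForm N A e) {d : ℕ} {a : Fin d → ℕ} (G : ∀ j : Fin d, RForm N A (a j))
    (h : F.1 ∈ Ideal.span (Set.range fun j => (G j).1)) : rhypIdeal F ≤ rciIdeal G := by
  refine (Scheme.IdealSheafData.le_of_iSup_eq_top
    (fun j : Fin (N + 1) ↦ (⟨rchart N A j, isAffineOpen_rchart j⟩ :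
      (CohB1.ProjSpace N A).affineOpens)) iSup_rchart fun j ↦ ?_)
  rw [rhypIdeal_ideal_of_le F j _ le_rfl, rciIdeal_ideal_of_le G j _ le_rfl, Ideal.span_singleton_le_iff_mem]
  have h1 := Ideal.mem_map_of_mem ((polyToChart j).comp (ProjChart.dehom N A j)) h
  rw [Ideal.map_span, ← Set.range_comp] at h1
  have h2 : ∀ {m : ℕ} (P : RForm N A m), ((polyToChart j).comp (ProjChart.dehom N A j)) P.1 = rdehom P j :=
    fun P => (dehom_eq P j).symm
  rw [h2] at h1
  rw [ores_refl]
  have h3 : (fun i => (ores (le_refl (rchart N A j))) (rdehom (G i) j)) =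
      (⇑((polyToChart j).comp (ProjChart.dehom N A j)) ∘ fun j => (G j).1) := by
    funext i
    rw [Function.comp_apply, h2, ores_refl]
  rw [h3]
  exact h1

end Incl

theorem pmap_id (A : Type u) [CommRing A] (n : ℕ) : pmap (RingHom.id A) n = 𝟙 (CohB1.ProjSpace n A) := by
  have h1 : pmap (RingHom.id A) n ≫ pmap (RingHom.id A) n = pmap (RingHom.id A) n := by
    rw [← Groth.Agent.Fga.QD1Hilb.pmap_comp]
    rfl
  have h2 : IsIso (Spec.map (CommRingCat.ofHom (RingHom.id A))) := by
    rw [CommRingCat.ofHom_id, Spec.map_id]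
    infer_instance
  have h3 : IsIso (pmap (RingHom.id A) n) := (isPullback_pmap (RingHom.id A) n).isIso_fst_of_isIso
  rw [← cancel_epi (pmap (RingHom.id A) n), h1, Category.comp_id]

/-! ## The family over `Spec R` -/

section Family

variable {k : Type u} [Field k] {R : Type u} [CommRing R] (σ : k →+* R) (f : LefPen.Form 4 k 3)
  {d : ℕ} {a : Fin d → ℕ} (G : ∀ j : Fin d, RForm 4 R (a j))

theorem ker_emb_le (h : MvPolynomial.map σ f.1 ∈ Ideal.span (Set.range fun j => (G j).1)) :
    (emb f).ker ≤ (yι G ≫ pmap σ 4).ker := by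
  rw [Scheme.IdealSheafData.ker_subschemeι, ← Scheme.IdealSheafData.map_ker, Scheme.IdealSheafData.ker_subschemeι,
    Scheme.IdealSheafData.le_map_iff_comap_le]
  have h1 := comap_rhypIdeal σ (r := 4) f
  rw [← rhypIdeal_eq, h1]
  exact rhypIdeal_le _ G h

variable (h : MvPolynomial.map σ f.1 ∈ Ideal.span (Set.range fun j => (G j).1))

/-- The map from the family to the hypersurface. -/
noncomputable def toXf : Y G ⟶ Xf f := IsClosedImmersion.lift (emb f) (yι G ≫ pmap σ 4) (ker_emb_le σ f G h)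

@[reassoc]
theorem toXf_emb : toXf σ f G h ≫ emb f = yι G ≫ pmap σ 4 := IsClosedImmersion.lift_fac _ _ _

theorem toXf_ps : toXf σ f G h ≫ ps f = yStr G ≫ Spec.map (CommRingCat.ofHom σ) := by
  change toXf σ f G h ≫ emb f ≫ CohB1.ProjSpace.toSpec 4 k = _
  rw [toXf_emb_assoc, Category.assoc, (isPullback_pmap σ 4).w]

theorem isClosedImmersion_lift : IsClosedImmersion (pullback.lift (toXf σ f G h) (yStr G) (toXf_ps σ f G h)) := by
  let b : pullback (ps f) (Spec.map (CommRingCat.ofHom σ)) ⟶ CohB1.ProjSpace 4 R :=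
    (isPullback_pmap σ 4).lift (pullback.fst _ _ ≫ emb f) (pullback.snd _ _) (by
      rw [Category.assoc]
      exact pullback.condition)
  have hb1 : b ≫ pmap σ 4 = pullback.fst _ _ ≫ emb f := IsPullback.lift_fst _ _ _ _
  have hb2 : b ≫ CohB1.ProjSpace.toSpec 4 R = pullback.snd _ _ := IsPullback.lift_snd _ _ _ _
  have e : pullback.lift (toXf σ f G h) (yStr G) (toXf_ps σ f G h) ≫ b = yι G := by
    apply (isPullback_pmap σ 4).hom_ext
    · rw [Category.assoc, hb1, pullback.lift_fst_assoc, toXf_emb]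
    · rw [Category.assoc, hb2, pullback.lift_snd]
  have h1 : IsClosedImmersion (pullback.lift (toXf σ f G h) (yStr G) (toXf_ps σ f G h) ≫ b) := by
    rw [e]; infer_instance
  have h0 : IsProper (CohB1.ProjSpace.toSpec 4 k) := Groth.Agent.Ega3B.ProjProper.isProper_toSpec 4 k
  have h2 : IsSeparated (ps f) := inferInstance
  have h3 : IsSeparated (b ≫ CohB1.ProjSpace.toSpec 4 R) := by rw [hb2]; infer_instance
  have h4 : IsSeparated b := IsSeparated.of_comp b (CohB1.ProjSpace.toSpec 4 R)
  exact IsClosedImmersion.of_comp _ b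

/-- The fibre of the family over a `k`-point of `Spec R`. -/
theorem ker_fibre (m : R →+* k) (hm : m.comp σ = RingHom.id k) (G' : ∀ j : Fin d, RForm 4 k (a j))
    (hG : ∀ j, G' j = mapForm m (G j)) :
    (rMap m G G' hG ≫ toXf σ f G h).ker = (rciIdeal G').comap (emb f) := by
  have e : (rMap m G G' hG ≫ toXf σ f G h) ≫ emb f = yι G' := by
    rw [Category.assoc, toXf_emb, rMap_subschemeι_assoc, ← Groth.Agent.Fga.QD1Hilb.pmap_comp, hm, pmap_id,
      Category.comp_id]
  have h1 : IsClosedImmersion ((rMap m G G' hG ≫ toXf σ f G h) ≫ emb f) := by rw [e]; infer_instance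
  have h2 : IsClosedImmersion (rMap m G G' hG ≫ toXf σ f G h) := IsClosedImmersion.of_comp _ (emb f)
  have h3 : IsPullback (𝟙 _) (rMap m G G' hG ≫ toXf σ f G h) (yι G') (emb f) :=
    IsPullback.of_horiz_isIso_mono ⟨by rw [e]; simp⟩
  rw [Groth.Agent.Fga.HilbClosed.ker_of_isPullback h3, Scheme.IdealSheafData.ker_subschemeι]

end Family

end Groth.Agent.Fano.K276.QuartUniv
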